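import Cfsg.Agent.Lib.Known.PSL2
import Cfsg.Agent.Lib.Char.Integral
import Cfsg.Prelude.Def_DegreeGraph

/-! Character degrees of SL₂(q) and PSL₂(q). -/

set_option autoImplicit false

namespace Cfsg.Lib.Known

open Matrix Cfsg.Lib.Char Cfsg.Lib.Linear

theorem charDegrees_subset_of_surjective {G H : Type*} [Group G] [Group H] (f : G →* H)
    (hf : Function.Surjective f) : charDegrees H ⊆ charDegrees G := by
  rintro _ ⟨χ, rfl⟩
  exact ⟨⟨_, χ.2.comp f hf⟩, by simp [charDegree]⟩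

theorem charDegrees_congr {G H : Type*} [Group G] [Group H] (e : G ≃* H) :
    charDegrees G = charDegrees H :=
  (charDegrees_subset_of_surjective e.symm.toMonoidHom e.symm.surjective).antisymm
    (charDegrees_subset_of_surjective e.toMonoidHom e.surjective)

theorem mem_charDegrees {G : Type*} [Group G] {χ : G → ℂ} (hχ : IsIrrCharacter G χ) {n : ℕ}
    (h : χ 1 = n) : n ∈ charDegrees G := ⟨⟨χ, hχ⟩, charDegree_eq_of_eq h⟩

variable {F : Type*} [Field F] [Fintype F]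

theorem SL2_degree_cases {χ : SL2 F → ℂ} (hχ : IsIrrCharacter _ χ) [DecidableEq F] :
    χ = StS F ∨ charDegree χ ∣ Nat.card F + 1 ∨ charDegree χ ∣ Nat.card F - 1 := by
  rcases SL2_irr_cases' hχ hχ.coe_charDegree.symm with h | h | h | h | ⟨⟨m, hm⟩, h, -⟩ |
    ⟨⟨m, hm⟩, h, -⟩
  · exact Or.inr (Or.inl (by rw [h.1]; exact one_dvd _))
  · exact Or.inl h.2
  · exact Or.inr (Or.inl (h.1 ▸ dvd_rfl))
  · exact Or.inr (Or.inr (h.1 ▸ dvd_rfl))
  · exact Or.inr (Or.inl ⟨2, by omega⟩)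
  · exact Or.inr (Or.inr ⟨2, by omega⟩)

theorem SL2_charDegrees_cases {d : ℕ} (h : d ∈ charDegrees (SL2 F)) :
    d = Nat.card F ∨ d ∣ Nat.card F + 1 ∨ d ∣ Nat.card F - 1 := by
  classical
  obtain ⟨⟨χ, hχ⟩, rfl⟩ := h
  refine (SL2_degree_cases hχ).imp_left ?_
  rintro rfl
  exact charDegree_eq_of_eq StS_apply_one

theorem exists_PSL2_irr {χ : SL2 F → ℂ} (hχ : IsIrrCharacter _ χ) (h : χ (-1) = χ 1) :
    ∃ ψ, IsIrrCharacter (PSL2 F) ψ ∧ χ = fun g => ψ (pmk F g) := by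
  refine hχ.exists_comp_of_surjective _ pmk_surjective fun g hg => hχ.mem_charKer.2 ?_
  rcases pmk_eq_one_iff'.1 hg with rfl | rfl
  · rfl
  · exact h

theorem mem_charDegrees_PSL2 {χ : SL2 F → ℂ} (hχ : IsIrrCharacter _ χ) (h : χ (-1) = χ 1) {n : ℕ}
    (hn : χ 1 = n) : n ∈ charDegrees (PSL2 F) := by
  obtain ⟨ψ, hψ, rfl⟩ := exists_PSL2_irr hχ h
  exact mem_charDegrees hψ (by simpa using hn)

theorem StS_neg_one [DecidableEq F] : StS F (-1) = StS F 1 := by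
  rw [← triS_neg_one, StS_scal (by simp), StS_apply_one]

theorem exists_Ch_pow_four_ne_one {A : Type*} [CommGroup A] [Finite A] [IsCyclic A]
    (h : ¬ Nat.card A ∣ 4) : ∃ χ : Ch A, (χ ^ 2) ^ 2 ≠ 1 := by
  have := isCyclic_Ch (A := A)
  obtain ⟨χ, hχ⟩ := exists_orderOf_eq_of_isCyclic (A := Ch A) dvd_rfl
  refine ⟨χ, fun h' => h ?_⟩
  rw [← card_Ch, ← hχ, orderOf_dvd_iff_pow_eq_one, ← h', ← pow_mul]

theorem card_mem_charDegrees_PSL2 : Nat.card F ∈ charDegrees (PSL2 F) := by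
  classical
  exact mem_charDegrees_PSL2 isIrr_StS StS_neg_one StS_apply_one

theorem card_add_one_mem_charDegrees_PSL2 (h : ¬ Nat.card F - 1 ∣ 4) :
    Nat.card F + 1 ∈ charDegrees (PSL2 F) := by
  classical
  obtain ⟨β, hβ⟩ := exists_Ch_pow_four_ne_one (A := Fˣ) (by rwa [Nat.card_units])
  refine mem_charDegrees_PSL2 (isIrr_RS hβ) ?_ (by rw [RS_apply_one]; simp)
  rw [← triS_neg_one, RS_scal _ (by simp), RS_apply_one, Ch.pow_apply, ← Ch.map_pow]
  simp [Ch.map_one]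

theorem card_sub_one_mem_charDegrees_PSL2 (h : ¬ Nat.card F + 1 ∣ 4) :
    Nat.card F - 1 ∈ charDegrees (PSL2 F) := by
  classical
  have := isCyclic_U1 (F := F)
  obtain ⟨β, hβ⟩ := exists_Ch_pow_four_ne_one (A := U1 F) (by rwa [card_U1])
  refine mem_charDegrees_PSL2 (isIrr_neg_RS' hβ) ?_ (neg_RS'_apply_one _)
  have h1 : (uOf (-1 : Fˣ) (by simp)) ^ 2 = 1 := by
    rw [← isScal_singerS_iff, singerS_uOf, isScal_triS_iff]; simp
  rw [Pi.neg_apply, Pi.neg_apply, ← triS_neg_one, RS'_scal _ (by simp), RS'_apply_one, Ch.pow_apply,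
    ← Ch.map_pow, h1, Ch.map_one, mul_one]

theorem charDegrees_of_equiv {S : Type*} [Group S]
    (hS : Nonempty (S ≃* PSL2 F) ∨ Nonempty (S ≃* SL2 F)) :
    charDegrees (PSL2 F) ⊆ charDegrees S ∧ charDegrees S ⊆ charDegrees (SL2 F) := by
  have h := charDegrees_subset_of_surjective (pmk F) pmk_surjective
  rcases hS with ⟨⟨e⟩⟩ | ⟨⟨e⟩⟩ <;> rw [charDegrees_congr e]
  · exact ⟨le_rfl, h⟩
  · exact ⟨h, le_rfl⟩

/-- Degree primes and degree graph of (P)SL₂(q). -/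
theorem degreeGraph_SL2 {S : Type*} [Group S]
    (hS : Nonempty (S ≃* PSL2 F) ∨ Nonempty (S ≃* SL2 F)) (h1 : ¬ Nat.card F - 1 ∣ 4)
    (h2 : ¬ Nat.card F + 1 ∣ 4) :
    degreePrimes S = {r : ℕ | r.Prime ∧ r ∣ Nat.card F * (Nat.card F ^ 2 - 1)} ∧
    ∀ r s : ℕ, (degreeGraph S).Adj r s ↔ (r ≠ s ∧ r.Prime ∧ s.Prime ∧
      ((r ∣ Nat.card F + 1 ∧ s ∣ Nat.card F + 1) ∨ (r ∣ Nat.card F - 1 ∧ s ∣ Nat.card F - 1))) := by
  obtain ⟨k1, k2⟩ := charDegrees_of_equiv hS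
  have m0 := k1 card_mem_charDegrees_PSL2
  have m1 := k1 (card_add_one_mem_charDegrees_PSL2 h1)
  have m2 := k1 (card_sub_one_mem_charDegrees_PSL2 h2)
  constructor
  · ext r
    refine and_congr_right fun hr => ⟨fun ⟨d, hd, h⟩ => ?_, fun h => ?_⟩
    · rw [sq_sub_one_eq]
      rcases SL2_charDegrees_cases (k2 hd) with rfl | k | k
      · exact h.mul_right _
      · exact ((h.trans k).mul_left _).mul_left _
      · exact ((h.trans k).mul_right _).mul_left _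
    · rw [sq_sub_one_eq, hr.dvd_mul, hr.dvd_mul] at h
      rcases h with h | h | h
      exacts [⟨_, m0, h⟩, ⟨_, m2, h⟩, ⟨_, m1, h⟩]
  · intro r s
    refine and_congr_right fun hrs => and_congr_right fun hr => and_congr_right fun hs =>
      ⟨fun ⟨d, hd, h⟩ => ?_, fun h => ?_⟩
    · have a1 := (Dvd.intro _ rfl).trans h
      have a2 := (Dvd.intro_left _ rfl).trans h
      rcases SL2_charDegrees_cases (k2 hd) with rfl | k | k
      · obtain ⟨p, hp⟩ := CharP.exists F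
        obtain ⟨n, hpp, hn⟩ := FiniteField.card F p
        rw [Nat.card_eq_fintype_card, hn] at a1 a2
        exact absurd (((Nat.prime_dvd_prime_iff_eq hr hpp).1 (hr.dvd_of_dvd_pow a1)).trans
          ((Nat.prime_dvd_prime_iff_eq hs hpp).1 (hs.dvd_of_dvd_pow a2)).symm) hrs
      · exact Or.inl ⟨a1.trans k, a2.trans k⟩
      · exact Or.inr ⟨a1.trans k, a2.trans k⟩
    · have hc := (Nat.coprime_primes hr hs).2 hrs
      rcases h with h | h
      exacts [⟨_, m1, hc.mul_dvd_of_dvd_of_dvd h.1 h.2⟩, ⟨_, m2, hc.mul_dvd_of_dvd_of_dvd h.1 h.2⟩]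

end Cfsg.Lib.Known
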